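import Cfsg.Agent.Lib.SmallSimple.CentralizerOrbits
import Cfsg.Agent.Lib.SmallSimple.ExceptionalDegree
import Cfsg.Agent.Lib.DefectOne.PrincipalOne
import Cfsg.Agent.Lib.DefectOne.SelfCent
import Cfsg.Agent.Lib.BrauerPairs.Lift
import Cfsg.Agent.Lib.CharInt.Burnside
import Cfsg.Agent.Lib.CharInt.Kazarin
import Cfsg.Agent.Lib.Transfer.Burnside
import Cfsg.Agent.Lib.Char.TwoDegrees

/-!
# Order of a simple group with a Sylow subgroup of prime order

For a non-abelian simple group `G` with `|G|_p = p` one has `p (p² - 1) / 2 ≤ |G|`: the degree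
relation of the principal block would otherwise force all degrees `≡ ±1` to be the Sylow number.
-/

set_option autoImplicit false
set_option linter.style.haveILetI false

namespace Cfsg.Agent.LeastNonClosed

open Cfsg Cfsg.Agent

/-- A divisor `≡ ±1 (mod p)`, at least `p - 1`, of the number `n * f`. -/
theorem eq_of_small {p n f d : ℕ} (hp : 3 ≤ p) (hf : 1 ≤ f) (hn : n % p = 1) (hn1 : p < n)
    (hsmall : 2 * (n * f) + 1 < p ^ 2) (hd : d ∣ n * f) (hd2 : p ≤ d + 1) (s : ℤ)
    (hs : s = 1 ∨ s = -1) (hds : (d : ℤ) ≡ s [ZMOD p]) : s = 1 ∧ d = n := by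
  obtain ⟨q, hq⟩ := hd
  obtain ⟨k, hk⟩ : ∃ k, n = p * k + 1 := ⟨n / p, by have := Nat.div_add_mod n p; omega⟩
  have hk1 : 1 ≤ k := Nat.one_le_iff_ne_zero.2 fun h => by subst h; omega
  have hkf : 2 * (k * f) + 1 ≤ p := by
    by_contra h
    have h' : p ≤ 2 * (k * f) := by omega
    have hpp := Nat.mul_le_mul_left p h'
    subst hk
    nlinarith
  have hfp : 2 * f + 1 ≤ p := by nlinarith
  have hcong : (q : ℤ) * s ≡ f [ZMOD p] := by
    have h1 : ((n * f : ℕ) : ℤ) ≡ f [ZMOD p] := by
      rw [Int.modEq_iff_dvd, hk]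
      exact ⟨-(k * f : ℤ), by push_cast; ring⟩
    rw [hq] at h1
    refine Int.ModEq.trans ?_ h1
    push_cast
    rw [mul_comm (q : ℤ) s]
    exact (Int.ModEq.mul_right _ hds).symm
  have hnd : ¬ p ≤ q + f := by
    intro h
    have h1 : (p - 1) * (p - f) ≤ d * q := Nat.mul_le_mul (by omega) (by omega)
    rw [← hq, hk] at h1
    obtain ⟨a, ha⟩ : ∃ a, p = a + f := ⟨p - f, by omega⟩
    rw [show p - f = a by omega] at h1
    have h2 : (p - 1 : ℕ) + 1 = p := by omega
    nlinarith
  have hq0 : q < p := by omega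
  rcases hs with rfl | rfl
  · refine ⟨rfl, ?_⟩
    rw [mul_one, Int.modEq_iff_dvd] at hcong
    have hqf : q = f := by
      by_contra hne
      have hne' : (f : ℤ) - q ≠ 0 := by omega
      have := Int.le_of_dvd (abs_pos.2 hne') ((dvd_abs _ _).2 hcong)
      rcases abs_cases ((f : ℤ) - q) with h | h <;> omega
    subst hqf
    exact (Nat.eq_of_mul_eq_mul_right hf hq).symm
  · exfalso
    rw [mul_neg_one, Int.modEq_iff_dvd] at hcong
    have := Int.le_of_dvd (by omega) hcong
    omega

theorem card_ge {G : Type*} [Group G] [Finite G] [IsSimpleGroup G] (hG : ¬ IsMulCommutative G)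
    {p : ℕ} [hp : Fact p.Prime] (hp2 : p ≠ 2) (P : Sylow p G)
    (hP : Nat.card (P : Subgroup G) = p) : p * (p ^ 2 - 1) / 2 ≤ Nat.card G := by
  classical
  haveI := Fintype.ofFinite G
  by_contra hlt
  rw [not_le] at hlt
  have hp3 : 3 ≤ p := by have := hp.out.two_le; omega
  have hdvd : p ∣ Nat.card G := hP ▸ Subgroup.card_subgroup_dvd_card _
  have hsN := SmallSimple.card_sylow_mul_card_normalizer P
  set n := Nat.card (Sylow p G) with hn
  have hmod : n % p = 1 := by
    have h : n ≡ 1 [MOD p] := card_sylow_modEq_one p G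
    rw [Nat.ModEq, Nat.one_mod_eq_one.2 (by omega)] at h
    exact h
  have hn5 : 5 ≤ n := SmallSimple.five_le_card_sylow hG hdvd
  have hnp : p < n := by
    rcases lt_trichotomy n p with h | h | h
    · rw [Nat.mod_eq_of_lt h] at hmod; omega
    · rw [h, Nat.mod_self] at hmod; omega
    · exact h
  set C := Subgroup.centralizer ((P : Subgroup G) : Set G) with hCdef
  set N := Subgroup.normalizer ((P : Subgroup G) : Set G) with hNdef
  obtain ⟨f, hf⟩ : p ∣ Nat.card N := by
    conv_lhs => rw [← hP]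
    exact Subgroup.card_dvd_of_le Subgroup.le_normalizer
  have hf1 : 1 ≤ f := Nat.one_le_iff_ne_zero.2 fun h => by
    rw [h, mul_zero] at hf; exact Nat.card_pos.ne' hf
  have hcard : Nat.card G = p * (n * f) := by rw [← hsN, hf]; ring
  have hsmall : 2 * (n * f) + 1 < p ^ 2 := by
    obtain ⟨a, ha⟩ : ∃ a, p ^ 2 - 1 = 2 * a := by
      obtain ⟨b, hb⟩ := hp.out.odd_of_ne_two hp2
      exact ⟨2 * b ^ 2 + 2 * b, Nat.sub_eq_of_eq_add (by rw [hb]; ring)⟩
    rw [ha, hcard, show p * (2 * a) = 2 * (p * a) by ring, Nat.mul_div_cancel_left _ two_pos] at hlt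
    have := Nat.lt_of_mul_lt_mul_left hlt
    omega
  have hfp : 2 * f + 1 < p := by
    by_contra h
    nlinarith [Nat.mul_le_mul (show p + 1 ≤ n by omega) (show p ≤ 2 * f + 1 by omega)]
  obtain ⟨Mi, hM⟩ := CharInt.exists_isPModular_of_prime hp.out
  haveI := hM.2.1
  set e := C.relIndex N with he
  obtain ⟨S⟩ := DefectOne.primeShape (P := P) (M := Mi) hM.2.2 hP (m := e) rfl
  have hCN : C ≤ N := SmallSimple.centralizer_le_normalizer _
  have hPC : (P : Subgroup G) ≤ C := by
    haveI : IsCyclic (P : Subgroup G) := isCyclic_of_prime_card hP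
    intro a ha b hb
    have := IsCyclic.isMulCommutative (α := (P : Subgroup G))
    exact congrArg Subtype.val (mul_comm' (⟨b, hb⟩ : (P : Subgroup G)) ⟨a, ha⟩)
  have hef : e ∣ f := by
    obtain ⟨c, hc⟩ : p ∣ Nat.card C := by
      conv_lhs => rw [← hP]
      exact Subgroup.card_dvd_of_le hPC
    have h : Nat.card C * e = Nat.card N := by
      rw [he, Subgroup.relIndex, ← Nat.card_congr (Subgroup.subgroupOfEquivOfLe hCN).toEquiv]
      exact Subgroup.card_mul_index _
    rw [hf, hc, mul_assoc] at h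
    exact ⟨c, by rw [mul_comm]; exact (Nat.eq_of_mul_eq_mul_left hp.out.pos h).symm⟩
  have he1 : e ≠ 1 := fun h1 => SmallSimple.not_hasNormalPComplement hG hdvd
    (Transfer.hasNormalPComplement_of_normalizer_le_centralizer P (Subgroup.relIndex_eq_one.1 h1))
  have he0 : e ≠ 0 := fun h => by
    have := Nat.eq_zero_of_zero_dvd (h ▸ hef); omega
  have hep : 2 * e + 1 < p := by have := Nat.le_of_dvd hf1 hef; omega
  have htriv : Char.trivialChar G ∈ S.X := by
    rcases S.mem_XY (BrauerPairs.trivialChar_mem_principalBlock (M := Mi) (G := G)) with h | h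
    · exact h
    · exfalso
      have h2 := S.Y_deg' h
      rw [show Char.degree (Char.trivialChar G) = 1 from
        Char.degree_eq_of_apply_one (by rw [Char.trivialChar_apply, Nat.cast_one]),
        Int.modEq_iff_dvd] at h2
      rcases S.hε with h4 | h4 <;> rw [h4] at h2
      · have := Int.le_of_dvd (by omega) h2; omega
      · have := Int.le_of_dvd (by omega) (dvd_neg.2 h2); omega
  have hεtriv : S.εX (Char.trivialChar G) = 1 := by
    obtain ⟨y₀, hy₀⟩ : ∃ y : (P : Subgroup G), y ≠ 1 := by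
      haveI : Nontrivial (P : Subgroup G) :=
        Finite.one_lt_card_iff_nontrivial.1 (by rw [hP]; exact hp.out.one_lt)
      exact exists_ne 1
    have h := S.X_val _ htriv y₀ hy₀
    rw [Char.trivialChar_apply] at h
    exact_mod_cast h.symm
  have hdd : ∀ χ : IrrCharacter G, ¬ p ∣ Char.degree χ → Char.degree χ ∣ n * f := by
    intro χ hχ
    have h := Char.degree_dvd_natCard χ
    rw [hcard] at h
    exact ((hp.out.coprime_iff_not_dvd).2 hχ).symm.dvd_of_dvd_mul_left h
  have hX : ∀ χ ∈ S.X.erase (Char.trivialChar G),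
      S.εX χ * (Char.degree χ : ℤ) = (n : ℤ) := by
    intro χ hχ
    obtain ⟨hne, hX⟩ := Finset.mem_erase.1 hχ
    have hdeg := S.X_deg' hX
    have hε := S.hεX χ hX
    have h2 : 2 ≤ Char.degree χ := by
      by_contra hlt
      have := Char.degree_pos χ
      exact hne (SmallSimple.eq_trivialChar_of_degree_one hG _ (by
        rw [Char.apply_one_eq_degree, show Char.degree χ = 1 by omega, Nat.cast_one]))
    have hnd : ¬ p ∣ Char.degree χ := by
      intro hd
      have h0 : ((Char.degree χ : ℕ) : ℤ) ≡ 0 [ZMOD p] :=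
        Int.modEq_zero_iff_dvd.2 (Int.natCast_dvd_natCast.2 hd)
      have := Int.modEq_zero_iff_dvd.1 (hdeg.symm.trans h0)
      rcases hε with h | h <;> rw [h] at this
      · exact hp.out.not_dvd_one (by exact_mod_cast this)
      · exact hp.out.not_dvd_one (by exact_mod_cast (dvd_neg.1 this))
    have hge : p ≤ Char.degree χ + 1 := by
      have h' := hdeg
      rw [Int.modEq_iff_dvd] at h'
      rcases hε with h | h <;> rw [h] at h'
      · have := Int.le_of_dvd (by omega) (dvd_neg.2 h'); omega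
      · have := Int.le_of_dvd (by omega) (dvd_neg.2 h'); omega
    obtain ⟨h1, h3⟩ := eq_of_small hp3 hf1 hmod hnp hsmall (hdd χ hnd) hge _ hε hdeg
    rw [h1, h3, one_mul]
  obtain ⟨θ, hθ⟩ : S.Y.Nonempty := Finset.card_pos.1 (by
    rw [S.cardY]
    exact Nat.div_pos (Nat.le_of_dvd (by omega) S.m_dvd) (by omega))
  have hrel := S.degree_relation hθ
  rw [← Finset.add_sum_erase _ _ htriv, hεtriv, Finset.sum_congr rfl hX, Finset.sum_const,
    Finset.card_erase_of_mem htriv, S.cardX, nsmul_eq_mul,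
    show Char.degree (Char.trivialChar G) = 1 from
      Char.degree_eq_of_apply_one (by rw [Char.trivialChar_apply, Nat.cast_one])] at hrel
  obtain ⟨j, hj⟩ : ∃ j, e = j + 2 := ⟨e - 2, by omega⟩
  rw [show e - 1 = j + 1 by omega] at hrel
  push_cast at hrel
  have hεpos : S.ε = 1 := by
    rcases S.hε with h | h
    · exact h
    · rw [h] at hrel
      have : (0 : ℤ) ≤ ((j : ℤ) + 1) * n := by positivity
      omega
  rw [hεpos, one_mul] at hrel
  have hθeq : Char.degree θ = 1 + (j + 1) * n := by exact_mod_cast hrel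
  have hθp : ¬ p ∣ Char.degree θ := by
    intro hd
    have h := S.Y_deg' hθ
    rw [hεpos, one_mul] at h
    have := Int.modEq_zero_iff_dvd.1 (h.symm.trans
      (Int.modEq_zero_iff_dvd.2 (Int.natCast_dvd_natCast.2 hd)))
    have := Nat.le_of_dvd (by omega) (Int.natCast_dvd_natCast.1 this)
    omega
  have hco : Nat.Coprime (Char.degree θ) n := by
    rw [hθeq]; simp [Nat.coprime_add_mul_right_left]
  have := Nat.le_of_dvd hf1 (hco.dvd_of_dvd_mul_left (hdd θ hθp))
  rw [hθeq] at this
  nlinarith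

end Cfsg.Agent.LeastNonClosed
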